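import Cfsg.Agent.Lib.Helper5.Co1Gen.WP

/-!
# Generators of Co₁ on the 98280 pairs: the five involutions generate the group

The elements `x`, `y`, `w` of `Co1Out` (which generate the group, by the tight chain of trees) are
words in the five letters `h0`, `h1`, `h2`, `h3`, `x` (numbered `0, …, 4`; the words are applied from
left to right); each identity is checked at the five base points of the word problem.  (The words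
were found by sifting the tables through a stabiliser chain of the group generated by the five
letters.)
-/

set_option autoImplicit false
set_option maxRecDepth 100000

namespace Cfsg.Agent.Lib.Helper5.Co1Gen

open Cfsg.Agent.PF Cfsg.Agent.Co1P Cfsg.Agent.Co1Out
open Cfsg.Agent.PL (Acts)
open Cfsg.Agent.Lib.Helper6.Leech (Co1)

/-- the element `x` (of order 23; it is the letter `A`) of `Co1Out` as a word in the five letters -/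
def wx : List ℕ := [0, 3, 1, 3, 0, 1, 3, 0, 1, 3, 1, 0, 3, 0, 3, 1, 0, 1, 0, 3, 1, 3, 0, 3, 0, 1, 0, 1, 3, 0, 3, 1, 3, 0, 1, 0, 1, 3, 1, 0, 1, 0, 3, 0, 3, 1, 0, 3, 0, 3, 1, 3, 0, 3, 1, 0, 1, 0, 1, 3, 0, 3, 1, 3, 0, 1, 0, 1, 3, 1, 0, 1, 0, 3, 0, 3, 1, 0, 3, 0, 3, 1, 3, 0, 3, 1, 0, 1, 3, 0, 3, 0, 1, 3, 1, 0, 3, 1, 0, 3, 0, 1, 3, 0, 3, 0, 1, 0, 3, 1, 0, 1, 3, 0, 3, 0, 1, 3, 0, 1, 0, 3, 0, 3, 1, 3, 0, 3, 0, 3, 0, 1, 3, 0, 3, 1, 3, 0, 1, 0, 1, 3, 1, 0, 1, 0, 3, 0, 3, 1, 0, 3, 0, 3, 1, 3, 0, 3, 1, 0, 1, 3, 0, 3, 0, 3, 1, 3, 0, 3, 0, 1, 0, 3, 1, 0, 3, 0, 3, 1, 0, 1, 3, 0, 1, 0, 3, 0, 3, 1, 0, 3, 0, 1, 3, 0, 1, 3, 1, 0, 1, 3, 0, 1, 3, 0, 1, 3, 1, 0, 3, 0, 3, 1, 0, 1, 0, 3, 1, 3, 0, 3, 0, 1, 0, 1, 3,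 0, 3, 1, 3, 0, 1, 0, 1, 3, 1, 0, 1, 0, 3, 0, 3, 1, 0, 3, 0, 3, 1, 3, 0, 3, 1, 0, 1, 0, 1, 3, 0, 3, 1, 3, 0, 1, 0, 1, 3, 1, 0, 1, 0, 3, 0, 3, 1, 0, 3, 0, 3, 1, 3, 0, 3, 1, 0, 1, 3, 0, 3, 0, 3, 1, 3, 0, 3, 0, 1, 0, 3, 1, 0, 3, 0, 3, 1, 0, 1, 3, 0, 1, 0, 3, 0, 3, 1, 0, 3, 0, 1, 3, 0, 1, 3, 1, 3, 1, 3, 0, 3, 0, 1, 0, 3, 1, 0, 3, 0, 3, 1, 0, 1, 3, 0, 1, 0, 3, 0, 3, 1, 0, 3, 0, 1, 3, 0, 1, 3, 1, 0, 3, 0, 3, 1, 0, 1, 3, 0, 3, 1, 3, 0, 3, 0, 1, 3, 0, 3, 0, 1, 0, 1, 3, 1, 0, 1, 0, 3, 1, 3, 0, 3, 1, 0, 3, 0, 3, 0, 1, 3, 1, 0, 3, 1, 0, 3, 0, 1, 3, 0, 3, 0, 1, 0, 3, 1, 0, 1, 3, 0, 3, 0, 1, 3, 0, 1, 0, 3, 0, 3, 1, 3, 0, 3, 0, 3, 0, 1, 3, 0, 3, 1, 3, 0, 1, 0, 1, 3, 1, 0, 1, 0, 3, 0, 3, 1, 0, 3, 0, 3, 1,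 3, 0, 3, 1, 0, 1, 3, 0, 3, 0, 1, 3, 1, 0, 3, 1, 0, 3, 0, 1, 3, 0, 3, 0, 1, 0, 3, 1, 0, 1, 3, 0, 3, 0, 1, 3, 0, 1, 0, 3, 0, 3, 1, 3, 0, 1, 3, 0, 1, 3, 0, 1, 3, 1, 0, 3, 0, 3, 1, 0, 1, 0, 3, 1, 3, 0, 3, 1, 3, 0, 3, 1, 3, 0, 3, 0, 1, 3, 0, 3, 0, 1, 0, 1, 3, 1, 0, 1, 0, 3, 1, 3, 0, 3, 1, 0, 3, 0, 3, 0, 3, 1, 3, 0, 3, 0, 1, 0, 3, 1, 0, 3, 0, 3, 1, 0, 1, 3, 0, 1, 0, 3, 0, 3, 1, 0, 3, 0, 1, 3, 0, 3, 1, 0, 3, 0, 1, 3, 0, 3, 0, 1, 0, 2, 0, 2, 3, 0, 2, 3, 0, 1, 3, 1, 3, 0, 3, 4, 1, 0, 1]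

/-- the element `y` of `Co1Out` as a word in the five letters -/
def wy : List ℕ := [0, 3, 1, 3, 0, 1, 3, 0, 1, 3, 1, 0, 3, 0, 3, 1, 0, 1, 0, 3, 1, 3, 0, 3, 0, 1, 0, 1, 3, 0, 3, 1, 3, 0, 1, 0, 1, 3, 1, 0, 1, 0, 3, 0, 3, 1, 0, 3, 0, 3, 1, 3, 0, 3, 1, 0, 1, 0, 1, 3, 0, 3, 1, 3, 0, 1, 0, 1, 3, 1, 0, 1, 0, 3, 0, 3, 1, 0, 3, 0, 3, 1, 3, 0, 3, 1, 0, 1, 3, 0, 3, 0, 1, 3, 1, 0, 3, 1, 0, 3, 0, 1, 3, 0, 3, 0, 1, 0, 3, 1, 0, 1, 3, 0, 3, 0, 1, 3, 0, 1, 0, 3, 0, 3, 1, 3, 0, 3, 0, 3, 0, 1, 3, 0, 3, 1, 3, 0, 1, 0, 1, 3, 1, 0, 1, 0, 3, 0, 3, 1, 0, 3, 0, 3, 1, 3, 0, 3, 1, 0, 1, 3, 0, 3, 0, 3, 1, 3, 0, 3, 0, 1, 0, 3, 1, 0, 3, 0, 3, 1, 0, 1, 3, 0, 1, 0, 3, 0, 3, 1, 0, 3, 0, 1, 3, 0, 1, 3, 1, 0, 1, 3, 0, 1, 3,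 0, 1, 3, 1, 0, 3, 0, 3, 1, 0, 1, 0, 3, 1, 3, 0, 3, 0, 1, 0, 1, 3, 0, 3, 1, 3, 0, 1, 0, 1, 3, 1, 0, 1, 0, 3, 0, 3, 1, 0, 3, 0, 3, 1, 3, 0, 3, 1, 0, 1, 0, 1, 3, 0, 3, 1, 3, 0, 1, 0, 1, 3, 1, 0, 1, 0, 3, 0, 3, 1, 0, 3, 0, 3, 1, 3, 0, 3, 1, 0, 1, 3, 0, 3, 0, 3, 1, 3, 0, 3, 0, 1, 0, 3, 1, 0, 3, 0, 3, 1, 0, 1, 3, 0, 1, 0, 3, 0, 3, 1, 0, 3, 0, 1, 3, 0, 1, 3, 1, 3, 1, 3, 0, 3, 0, 1, 0, 3, 1, 0, 3, 0, 3, 1, 0, 1, 3, 0, 1, 0, 3, 0, 3, 1, 0, 3, 0, 1, 3, 0, 1, 3, 1, 0, 3, 0, 3, 1, 0, 1, 3, 0, 3, 1, 3, 0, 3, 0, 1, 3, 0, 3, 0, 1, 0, 1, 3, 1, 0, 1, 0, 3, 1, 3, 0, 3, 1, 0, 3, 0, 3, 0, 1, 3, 1, 0, 3, 1, 0, 3, 0, 1, 3, 0, 3, 0, 1, 0, 3, 1, 0, 1, 3, 0, 3, 0, 1, 3, 0, 1, 0, 3, 0, 3, 1, 3, 0, 3, 0, 3, 1, 0, 3,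 0, 3, 1, 3, 0, 1, 0, 1, 3, 0, 3, 0, 1, 3, 1, 0, 3, 1, 0, 3, 1, 3, 0, 3, 0, 1, 3, 0, 3, 1, 3, 0, 1, 0, 1, 3, 1, 0, 1, 0, 3, 0, 3, 1, 0, 3, 0, 3, 1, 3, 0, 3, 1, 0, 1, 3, 0, 3, 0, 1, 3, 1, 0, 3, 1, 0, 3, 0, 1, 3, 0, 3, 0, 1, 0, 3, 1, 0, 1, 3, 0, 3, 0, 1, 3, 0, 1, 0, 3, 0, 3, 1, 3, 0, 3, 0, 3, 0, 1, 3, 0, 3, 1, 3, 0, 1, 0, 1, 3, 1, 0, 1, 0, 3, 0, 3, 1, 0, 3, 0, 3, 1, 3, 0, 3, 1, 0, 1, 3, 0, 3, 1, 3, 0, 1, 3, 0, 1, 3, 1, 0, 3, 0, 3, 1, 0, 1, 0, 3, 1, 3, 0, 3, 0, 1, 0, 1, 3, 0, 3, 1, 3, 0, 1, 0, 1, 3, 1, 0, 1, 0, 3, 0, 3, 1, 0, 3, 0, 3, 1, 3, 0, 3, 1, 0, 1, 3, 0, 3, 0, 3, 1, 3, 0, 3, 0, 1, 0, 3, 1, 0, 3, 0, 3, 1, 0, 1, 3, 0, 1, 0, 3, 0, 3, 1, 0, 3, 0, 1, 3, 0, 1, 3, 1, 3, 1, 3, 0, 3, 0, 1, 0, 3,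 1, 0, 3, 0, 3, 1, 0, 1, 3, 0, 1, 0, 3, 0, 3, 1, 0, 3, 0, 1, 3, 0, 1, 3, 1, 0, 1, 3, 0, 1, 3, 0, 1, 3, 1, 0, 3, 0, 3, 1, 0, 1, 0, 3, 1, 3, 0, 3, 0, 1, 3, 0, 3, 0, 3, 1, 3, 0, 3, 0, 1, 0, 3, 1, 0, 3, 0, 3, 1, 0, 1, 3, 0, 1, 0, 3, 0, 3, 1, 0, 3, 0, 1, 3, 0, 1, 3, 1, 0, 3, 0, 3, 1, 0, 1, 3, 0, 3, 1, 3, 0, 3, 0, 1, 3, 0, 3, 0, 1, 0, 1, 3, 1, 0, 1, 0, 3, 1, 3, 0, 3, 1, 0, 3, 0, 3, 0, 3, 1, 3, 0, 3, 0, 1, 0, 3, 1, 0, 3, 0, 3, 1, 0, 1, 3, 0, 1, 0, 3, 0, 3, 1, 0, 3, 0, 1, 3, 0, 1, 3, 1, 0, 3, 0, 3, 0, 1, 3, 0, 3, 1, 3, 0, 1, 0, 1, 3, 1, 0, 1, 0, 3, 0, 3, 1, 0, 3, 0, 3, 1, 3, 0, 3, 1, 0, 1, 0, 1, 3, 0, 3, 1, 3, 0, 1, 0, 1, 3, 1, 0, 1, 0, 3, 0, 3, 1, 0, 3, 0, 3, 1, 3, 0, 3, 1, 3, 0, 3, 1, 3, 0, 1, 0,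 1, 3, 0, 3, 0, 1, 3, 1, 0, 3, 1, 0, 3, 1, 3, 0, 3, 1, 0, 1, 3, 1, 3, 0, 3, 1, 0, 3, 1, 2, 1, 0, 3, 0, 3, 0, 2, 3, 1, 3, 4, 1, 4, 0, 1, 4, 3, 2, 4]

/-- the element `w` of `Co1Out` as a word in the five letters -/
def ww : List ℕ := [0, 3, 1, 3, 0, 1, 3, 0, 1, 3, 1, 0, 3, 0, 3, 1, 0, 1, 0, 3, 1, 3, 0, 3, 0, 1, 0, 1, 3, 0, 3, 1, 3, 0, 1, 0, 1, 3, 1, 0, 1, 0, 3, 0, 3, 1, 0, 3, 0, 3, 1, 3, 0, 3, 1, 0, 1, 0, 1, 3, 0, 3, 1, 3, 0, 1, 0, 1, 3, 1, 0, 1, 0, 3, 0, 3, 1, 0, 3, 0, 3, 1, 3, 0, 3, 1, 0, 1, 3, 0, 3, 0, 1, 3, 1, 0, 3, 1, 0, 3, 0, 1, 3, 0, 3, 0, 1, 0, 3, 1, 0, 1, 3, 0, 3, 0, 1, 3, 0, 1, 0, 3, 0, 3, 1, 3, 0, 3, 0, 3, 0, 1, 3, 0, 3, 1, 3, 0, 1, 0, 1, 3, 1, 0, 1, 0, 3, 0, 3, 1, 0, 3, 0, 3, 1, 3,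 0, 3, 1, 0, 1, 3, 0, 3, 0, 3, 1, 3, 0, 3, 0, 1, 0, 3, 1, 0, 3, 0, 3, 1, 0, 1, 3, 0, 1, 0, 3, 0, 3, 1, 0, 3, 0, 1, 3, 0, 1, 3, 1, 0, 1, 3, 0, 1, 3, 0, 1, 3, 1, 0, 3, 0, 3, 1, 0, 1, 0, 3, 1, 3, 0, 3, 0, 1, 0, 1, 3, 0, 3, 1, 3, 0, 1, 0, 1, 3, 1, 0, 1, 0, 3, 0, 3, 1, 0, 3, 0, 3, 1, 3, 0, 3, 1, 0, 1, 0, 1, 3, 0, 3, 1, 3, 0, 1, 0, 1, 3, 1, 0, 1, 0, 3, 0, 3, 1, 0, 3, 0, 3, 1, 3, 0, 3, 1, 0, 1, 3, 0, 3, 0, 3, 1, 3, 0, 3, 0, 1, 0, 3, 1, 0, 3, 0, 3, 1, 0, 1, 3, 0, 1, 0, 3, 0, 3, 1, 0, 3, 0, 1, 3, 0, 1, 3, 1, 3, 1, 3, 0, 3, 0, 1, 0, 3, 1, 0, 3, 0, 3, 1, 0, 1, 3, 0, 1, 0, 3, 0, 3, 1, 0, 3, 0, 1, 3, 0, 1, 3, 1, 0, 3, 0, 3, 1, 0, 1, 3, 0, 3, 1, 3, 0, 3, 0, 1, 3, 0, 3, 0, 1, 0, 1, 3, 1, 0, 1, 0, 3, 1, 3,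 0, 3, 1, 0, 3, 0, 3, 0, 1, 3, 1, 0, 3, 1, 0, 3, 0, 1, 3, 0, 3, 0, 1, 0, 3, 1, 0, 1, 3, 0, 3, 0, 1, 3, 0, 1, 0, 3, 0, 3, 1, 3, 0, 3, 0, 3, 0, 1, 3, 0, 3, 1, 3, 0, 1, 0, 1, 3, 1, 0, 1, 0, 3, 0, 3, 1, 0, 3, 0, 3, 1, 3, 0, 3, 1, 0, 1, 3, 0, 3, 1, 3, 0, 1, 3, 0, 1, 3, 1, 0, 3, 0, 3, 1, 0, 1, 0, 3, 1, 3, 0, 3, 0, 1, 0, 1, 3, 0, 3, 1, 3, 0, 1, 0, 1, 3, 1, 0, 1, 0, 3, 0, 3, 1, 0, 3, 0, 3, 1, 3, 0, 3, 1, 0, 1, 3, 0, 3, 1, 3, 0, 1, 3, 0, 1, 3, 1, 0, 3, 0, 3, 1, 0, 1, 0, 3, 1, 3, 0, 3, 0, 1, 3, 0, 3, 0, 3, 1, 3, 0, 3, 0, 1, 0, 3, 1, 0, 3, 0, 3, 1, 0, 1, 3, 0, 1, 0, 3, 0, 3, 1, 0, 3, 0, 1, 3, 0, 1, 3, 1, 0, 3, 0, 3, 0, 1, 3, 0, 3, 1, 3, 0, 1, 0, 1, 3, 1, 0, 1, 0, 3, 0, 3, 1, 0, 3, 0, 3, 1, 3, 0, 3, 1,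 0, 1, 0, 3, 0, 1, 0, 1, 3, 1, 3, 0, 1, 3, 0, 3, 1, 0, 2, 1, 2, 3, 0, 2, 1, 2, 3, 1, 0, 2, 3, 0, 4, 0, 2, 3, 4, 1, 2, 3, 4, 3, 1]

theorem chk_word_x : agreeB f13 (evA wx) baseL = true := by decide +kernel

theorem chk_word_y : agreeB f14 (evA wy) baseL = true := by decide +kernel

theorem chk_word_w : agreeB f24 (evA ww) baseL = true := by decide +kernel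

theorem x_eq_word : Cfsg.Agent.Co1Out.x = rho (prodR wx) := by
  obtain ⟨g, hg⟩ := MonoidHom.mem_range.1 hx
  have ag : Acts (rho g) f13 := by rw [hg]; exact ax
  rw [← hg, eq_prodR ag wx chk_word_x]

theorem y_eq_word : Cfsg.Agent.Co1Out.y = rho (prodR wy) := by
  obtain ⟨g, hg⟩ := MonoidHom.mem_range.1 hy
  have ag : Acts (rho g) f14 := by rw [hg]; exact ay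
  rw [← hg, eq_prodR ag wy chk_word_y]

theorem w_eq_word : Cfsg.Agent.Co1Out.w = rho (prodR ww) := by
  obtain ⟨g, hg⟩ := MonoidHom.mem_range.1 hw
  have ag : Acts (rho g) f24 := by rw [hg]; exact aw
  rw [← hg, eq_prodR ag ww chk_word_w]

/-- the subgroup generated by the five letters -/
noncomputable def KL : Subgroup Co1 := Subgroup.closure {gH0, gH1, gH2, gH3, gXx}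

theorem gLk_mem : ∀ l : ℕ, gLk l ∈ KL
  | 0 => Subgroup.subset_closure (by simp [gLk])
  | 1 => Subgroup.subset_closure (by simp [gLk])
  | 2 => Subgroup.subset_closure (by simp [gLk])
  | 3 => Subgroup.subset_closure (by simp [gLk])
  | _ + 4 => Subgroup.subset_closure (by simp [gLk])

theorem prodR_mem : ∀ w : List ℕ, prodR w ∈ KL
  | [] => KL.one_mem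
  | l :: w => KL.mul_mem (prodR_mem w) (gLk_mem l)

/-- **The five involutions `h0`, `h1`, `h2`, `h3`, `x` generate Co₁.** -/
theorem KL_eq_top : KL = ⊤ := by
  apply Subgroup.map_injective rho_injective
  rw [← MonoidHom.range_eq_map]
  apply le_antisymm (Subgroup.map_le_range rho KL)
  show P ≤ KL.map rho
  rw [← K_eq_P]
  refine (Subgroup.closure_le _).2 ?_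
  intro p hp
  rcases hp with rfl | rfl | rfl
  · rw [x_eq_word]; exact Subgroup.mem_map_of_mem _ (prodR_mem wx)
  · rw [y_eq_word]; exact Subgroup.mem_map_of_mem _ (prodR_mem wy)
  · rw [w_eq_word]; exact Subgroup.mem_map_of_mem _ (prodR_mem ww)

theorem closure_letters :
    Subgroup.closure ({gH0, gH1, gH2, gH3, gXx} : Set Cfsg.Spor.Co1) = ⊤ := KL_eq_top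

end Cfsg.Agent.Lib.Helper5.Co1Gen
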