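import Cfsg.Agent.Lib.Helper5.Co1Gen.IDD
import Cfsg.Agent.Lib.Lead.Co1P.LDD
import Cfsg.Agent.Lib.Lead.PF.Out

/-! # Generators of Co₁ on the 98280 pairs: the check of the table of the inverse of the letter D (generated) -/

set_option autoImplicit false
set_option Elab.async false
set_option maxRecDepth 100000

namespace Cfsg.Agent.Lib.Helper5.Co1Gen

open Cfsg.Agent.PF Cfsg.Agent.Lib.Helper6 Cfsg.Agent.Lib.Helper6.TC Cfsg.Agent.Lib.Helper6.NatArr Cfsg.Agent.Co1P
open Cfsg.Agent.PL (Acts evalF)

theorem invD_0 : allR 0 49140 (fun q => (fun q => Nat.beq (flDi (flD q)) q) q) = true := by decide +kernel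

theorem invD_1 : allR 49140 49140 (fun q => (fun q => Nat.beq (flDi (flD q)) q) q) = true := by decide +kernel


end Cfsg.Agent.Lib.Helper5.Co1Gen
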