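import Cfsg.Agent.Lib.Helper5.Co1Gen.IAC
import Cfsg.Agent.Lib.Helper5.Co1Gen.IDC
import Cfsg.Agent.Lib.Helper5.Co1Gen.IXC

/-! # Generators of Co₁ on the 98280 pairs: the tables of the inverses of the letters A, D, X are inverse tables (generated) -/

set_option autoImplicit false
set_option maxRecDepth 100000

namespace Cfsg.Agent.Lib.Helper5.Co1Gen

open Cfsg.Agent.PF Cfsg.Agent.Lib.Helper6 Cfsg.Agent.Lib.Helper6.TC Cfsg.Agent.Lib.Helper6.NatArr Cfsg.Agent.Co1P
open Cfsg.Agent.PL (Acts evalF)

/-- the table `flAi` inverts the table of the letter A -/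
theorem chk_invA : ∀ q < 98280, flAi (flA q) = q :=
  fun q hq => Nat.eq_of_beq_eq_true
    (forall_lt_of_chunks (f := fun q => (fun q => Nat.beq (flAi (flA q)) q) q) [(0, 49140), (49140, 49140)] (by decide)
      (all_cons invA_0 (all_cons invA_1 all_nil)) q hq)

/-- the table `flDi` inverts the table of the letter D -/
theorem chk_invD : ∀ q < 98280, flDi (flD q) = q :=
  fun q hq => Nat.eq_of_beq_eq_true
    (forall_lt_of_chunks (f := fun q => (fun q => Nat.beq (flDi (flD q)) q) q) [(0, 49140), (49140, 49140)] (by decide)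
      (all_cons invD_0 (all_cons invD_1 all_nil)) q hq)

/-- the table `flXi` inverts the table of the letter X -/
theorem chk_invX : ∀ q < 98280, flXi (flX q) = q :=
  fun q hq => Nat.eq_of_beq_eq_true
    (forall_lt_of_chunks (f := fun q => (fun q => Nat.beq (flXi (flX q)) q) q) [(0, 49140), (49140, 49140)] (by decide)
      (all_cons invX_0 (all_cons invX_1 all_nil)) q hq)


end Cfsg.Agent.Lib.Helper5.Co1Gen
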