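import Cfsg.Agent.Lib.Lead.PF.Tab
import Cfsg.Agent.Lib.Lead.Co1P.LAD
import Cfsg.Agent.Lib.Lead.Co1P.LGD
import Cfsg.Agent.Lib.Lead.Co1P.LDD
import Cfsg.Agent.Lib.Lead.Co1P.LSD
import Cfsg.Agent.Lib.Lead.Co1P.LXD
import Cfsg.Agent.Lib.Helper5.Co1Gen.IAD
import Cfsg.Agent.Lib.Helper5.Co1Gen.IDD
import Cfsg.Agent.Lib.Helper5.Co1Gen.IXD

/-! # Generators of Co₁ on the 98280 pairs: the five involutions as words in the letters (generated) -/

set_option autoImplicit false
set_option maxRecDepth 100000

namespace Cfsg.Agent.Lib.Helper5.Co1Gen

open Cfsg.Agent.PF Cfsg.Agent.Lib.Helper6 Cfsg.Agent.Lib.Helper6.TC Cfsg.Agent.Lib.Helper6.NatArr Cfsg.Agent.Co1P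
open Cfsg.Agent.PL (Acts evalF)

/-- the tables of the letters of the word `GxSXG` (applied from left to right, small letters for inverses), the last letter first -/
noncomputable def WH0 : List (ℕ → ℕ) := [flG, flX, flS, flXi, flG]

/-- the tables of the letters of the word `xSX` (applied from left to right, small letters for inverses), the last letter first -/
noncomputable def WH1 : List (ℕ → ℕ) := [flX, flS, flXi]

/-- the tables of the letters of the word `adSDA` (applied from left to right, small letters for inverses), the last letter first -/
noncomputable def WH2 : List (ℕ → ℕ) := [flA, flD, flS, flDi, flAi]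

/-- the tables of the letters of the word `DXaSAxd` (applied from left to right, small letters for inverses), the last letter first -/
noncomputable def WH3 : List (ℕ → ℕ) := [flDi, flXi, flA, flS, flAi, flX, flD]

/-- the tables of the letters of the word `aDxSXdA` (applied from left to right, small letters for inverses), the last letter first -/
noncomputable def WXx : List (ℕ → ℕ) := [flA, flDi, flX, flS, flXi, flD, flAi]


end Cfsg.Agent.Lib.Helper5.Co1Gen
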