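import Cfsg.Agent.Lib.Helper5.Co1Gen.LXxD
import Cfsg.Agent.Lib.Helper5.Co1Gen.Words
import Cfsg.Agent.Lib.Lead.PF.Out

/-! # Generators of Co₁ on the 98280 pairs: the check of the table of the involution Xx (generated) -/

set_option autoImplicit false
set_option Elab.async false
set_option maxRecDepth 100000

namespace Cfsg.Agent.Lib.Helper5.Co1Gen

open Cfsg.Agent.PF Cfsg.Agent.Lib.Helper6 Cfsg.Agent.Lib.Helper6.TC Cfsg.Agent.Lib.Helper6.NatArr Cfsg.Agent.Co1P
open Cfsg.Agent.PL (Acts evalF)

theorem eqXx_0 : allR 0 12285 (fun q => (fun q => Nat.beq (fXx q) (wordR WXx q)) q) = true := by decide +kernel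

theorem eqXx_1 : allR 12285 12285 (fun q => (fun q => Nat.beq (fXx q) (wordR WXx q)) q) = true := by decide +kernel

theorem eqXx_2 : allR 24570 12285 (fun q => (fun q => Nat.beq (fXx q) (wordR WXx q)) q) = true := by decide +kernel

theorem eqXx_3 : allR 36855 12285 (fun q => (fun q => Nat.beq (fXx q) (wordR WXx q)) q) = true := by decide +kernel

theorem eqXx_4 : allR 49140 12285 (fun q => (fun q => Nat.beq (fXx q) (wordR WXx q)) q) = true := by decide +kernel

theorem eqXx_5 : allR 61425 12285 (fun q => (fun q => Nat.beq (fXx q) (wordR WXx q)) q) = true := by decide +kernel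

theorem eqXx_6 : allR 73710 12285 (fun q => (fun q => Nat.beq (fXx q) (wordR WXx q)) q) = true := by decide +kernel

theorem eqXx_7 : allR 85995 12285 (fun q => (fun q => Nat.beq (fXx q) (wordR WXx q)) q) = true := by decide +kernel


end Cfsg.Agent.Lib.Helper5.Co1Gen
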