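import Cfsg.Agent.Lib.Helper5.Co1Gen.LH0C
import Cfsg.Agent.Lib.Helper5.Co1Gen.LH1C
import Cfsg.Agent.Lib.Helper5.Co1Gen.LH2C
import Cfsg.Agent.Lib.Helper5.Co1Gen.LH3C
import Cfsg.Agent.Lib.Helper5.Co1Gen.LXxC

/-! # Generators of Co₁ on the 98280 pairs: the tables of the five involutions are the compositions of the tables of their letters (generated) -/

set_option autoImplicit false
set_option maxRecDepth 100000

namespace Cfsg.Agent.Lib.Helper5.Co1Gen

open Cfsg.Agent.PF Cfsg.Agent.Lib.Helper6 Cfsg.Agent.Lib.Helper6.TC Cfsg.Agent.Lib.Helper6.NatArr Cfsg.Agent.Co1P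
open Cfsg.Agent.PL (Acts evalF)

/-- the table `fH0` is the composition of the tables of the letters of `GxSXG` -/
theorem eqH0 : ∀ q < 98280, fH0 q = wordR WH0 q :=
  fun q hq => Nat.eq_of_beq_eq_true
    (forall_lt_of_chunks (f := fun q => (fun q => Nat.beq (fH0 q) (wordR WH0 q)) q) [(0, 16380), (16380, 16380), (32760, 16380), (49140, 16380), (65520, 16380), (81900, 16380)] (by decide)
      (all_cons eqH0_0 (all_cons eqH0_1 (all_cons eqH0_2 (all_cons eqH0_3 (all_cons eqH0_4 (all_cons eqH0_5 all_nil)))))) q hq)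

/-- the table `fH1` is the composition of the tables of the letters of `xSX` -/
theorem eqH1 : ∀ q < 98280, fH1 q = wordR WH1 q :=
  fun q hq => Nat.eq_of_beq_eq_true
    (forall_lt_of_chunks (f := fun q => (fun q => Nat.beq (fH1 q) (wordR WH1 q)) q) [(0, 24570), (24570, 24570), (49140, 24570), (73710, 24570)] (by decide)
      (all_cons eqH1_0 (all_cons eqH1_1 (all_cons eqH1_2 (all_cons eqH1_3 all_nil)))) q hq)

/-- the table `fH2` is the composition of the tables of the letters of `adSDA` -/
theorem eqH2 : ∀ q < 98280, fH2 q = wordR WH2 q :=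
  fun q hq => Nat.eq_of_beq_eq_true
    (forall_lt_of_chunks (f := fun q => (fun q => Nat.beq (fH2 q) (wordR WH2 q)) q) [(0, 16380), (16380, 16380), (32760, 16380), (49140, 16380), (65520, 16380), (81900, 16380)] (by decide)
      (all_cons eqH2_0 (all_cons eqH2_1 (all_cons eqH2_2 (all_cons eqH2_3 (all_cons eqH2_4 (all_cons eqH2_5 all_nil)))))) q hq)

/-- the table `fH3` is the composition of the tables of the letters of `DXaSAxd` -/
theorem eqH3 : ∀ q < 98280, fH3 q = wordR WH3 q :=
  fun q hq => Nat.eq_of_beq_eq_true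
    (forall_lt_of_chunks (f := fun q => (fun q => Nat.beq (fH3 q) (wordR WH3 q)) q) [(0, 12285), (12285, 12285), (24570, 12285), (36855, 12285), (49140, 12285), (61425, 12285), (73710, 12285), (85995, 12285)] (by decide)
      (all_cons eqH3_0 (all_cons eqH3_1 (all_cons eqH3_2 (all_cons eqH3_3 (all_cons eqH3_4 (all_cons eqH3_5 (all_cons eqH3_6 (all_cons eqH3_7 all_nil)))))))) q hq)

/-- the table `fXx` is the composition of the tables of the letters of `aDxSXdA` -/
theorem eqXx : ∀ q < 98280, fXx q = wordR WXx q :=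
  fun q hq => Nat.eq_of_beq_eq_true
    (forall_lt_of_chunks (f := fun q => (fun q => Nat.beq (fXx q) (wordR WXx q)) q) [(0, 12285), (12285, 12285), (24570, 12285), (36855, 12285), (49140, 12285), (61425, 12285), (73710, 12285), (85995, 12285)] (by decide)
      (all_cons eqXx_0 (all_cons eqXx_1 (all_cons eqXx_2 (all_cons eqXx_3 (all_cons eqXx_4 (all_cons eqXx_5 (all_cons eqXx_6 (all_cons eqXx_7 all_nil)))))))) q hq)


end Cfsg.Agent.Lib.Helper5.Co1Gen
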