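import Cfsg.Agent.Lib.Lead.Co1P.Real
import Cfsg.Agent.Lib.Helper5.Co1Gen.IC
import Cfsg.Agent.Lib.Helper5.Co1Gen.LC

/-!
# Generators of Co₁ on the 98280 pairs: the letters as elements of the group

The five generators `A`, `G`, `D`, `S`, `X` of `Co1P` (permutations `alphaL`, `gammaL`, `deltaL` of the
code, the sign change on an octad, the element `ξ`) as elements of `Cfsg.Spor.Co1` whose action on
the numbers of the pairs is given by the tables `flA`, …, `flX`; their inverses (tables `flAi`,
`flDi`, `flXi`); and the five involutions `h0`, `h1`, `h2`, `h3`, `x` used for the multiplier of Co₁: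
conjugates of the sign change `S`, given (as words applied from left to right, small letters for
inverses) by `GxSXG`, `xSX`, `adSDA`, `DXaSAxd`, `aDxSXdA`.
-/

set_option autoImplicit false

namespace Cfsg.Agent.Lib.Helper5.Co1Gen

open Cfsg.Agent.PF Cfsg.Agent.Co1P
open Cfsg.Agent.PL (Acts)
open Cfsg.Agent.Lib.Helper6.Leech (Co1)

/-- the letter `A` as an element of the group -/
noncomputable def gA : Co1 := Classical.choose (acts_of_word wA wA_valid flA chk_actA)
/-- the letter `G` as an element of the group -/
noncomputable def gG : Co1 := Classical.choose (acts_of_word wG wG_valid flG chk_actG)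
/-- the letter `D` as an element of the group -/
noncomputable def gD : Co1 := Classical.choose (acts_of_word wD wD_valid flD chk_actD)
/-- the letter `S` as an element of the group -/
noncomputable def gS : Co1 := Classical.choose (acts_of_word wS wS_valid flS chk_actS)
/-- the letter `X` as an element of the group -/
noncomputable def gX : Co1 := Classical.choose (acts_of_word wX wX_valid flX chk_actX)

theorem acts_gA : Acts (rho gA) flA := Classical.choose_spec (acts_of_word wA wA_valid flA chk_actA)
theorem acts_gG : Acts (rho gG) flG := Classical.choose_spec (acts_of_word wG wG_valid flG chk_actG)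
theorem acts_gD : Acts (rho gD) flD := Classical.choose_spec (acts_of_word wD wD_valid flD chk_actD)
theorem acts_gS : Acts (rho gS) flS := Classical.choose_spec (acts_of_word wS wS_valid flS chk_actS)
theorem acts_gX : Acts (rho gX) flX := Classical.choose_spec (acts_of_word wX wX_valid flX chk_actX)

theorem acts_gAi : Acts (rho gA⁻¹) flAi := by rw [map_inv]; exact acts_inv acts_gA chk_invA
theorem acts_gDi : Acts (rho gD⁻¹) flDi := by rw [map_inv]; exact acts_inv acts_gD chk_invD
theorem acts_gXi : Acts (rho gX⁻¹) flXi := by rw [map_inv]; exact acts_inv acts_gX chk_invX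

theorem acts_cons {g h : Co1} {f : ℕ → ℕ} {l : List (ℕ → ℕ)} (hg : Acts (rho g) f)
    (hh : Acts (rho h) (wordF l)) : Acts (rho (g * h)) (wordF (f :: l)) := by
  rw [map_mul]; exact hg.mul hh

theorem acts_one : Acts (rho (1 : Co1)) (wordF []) := by
  rw [map_one]; exact Acts.one

/-- the involution `h0 = GxSXG` -/
noncomputable def gH0 : Co1 := gG * (gX * (gS * (gX⁻¹ * (gG * 1))))
/-- the involution `h1 = xSX` -/
noncomputable def gH1 : Co1 := gX * (gS * (gX⁻¹ * 1))
/-- the involution `h2 = adSDA` -/
noncomputable def gH2 : Co1 := gA * (gD * (gS * (gD⁻¹ * (gA⁻¹ * 1))))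
/-- the involution `h3 = DXaSAxd` -/
noncomputable def gH3 : Co1 := gD⁻¹ * (gX⁻¹ * (gA * (gS * (gA⁻¹ * (gX * (gD * 1))))))
/-- the involution `x = aDxSXdA` -/
noncomputable def gXx : Co1 := gA * (gD⁻¹ * (gX * (gS * (gX⁻¹ * (gD * (gA⁻¹ * 1))))))

theorem acts_gH0 : Acts (rho gH0) (wordF WH0) :=
  acts_cons acts_gG (acts_cons acts_gX (acts_cons acts_gS (acts_cons acts_gXi (acts_cons acts_gG acts_one))))

theorem acts_gH1 : Acts (rho gH1) (wordF WH1) :=
  acts_cons acts_gX (acts_cons acts_gS (acts_cons acts_gXi acts_one))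

theorem acts_gH2 : Acts (rho gH2) (wordF WH2) :=
  acts_cons acts_gA (acts_cons acts_gD (acts_cons acts_gS (acts_cons acts_gDi (acts_cons acts_gAi acts_one))))

theorem acts_gH3 : Acts (rho gH3) (wordF WH3) :=
  acts_cons acts_gDi (acts_cons acts_gXi (acts_cons acts_gA (acts_cons acts_gS (acts_cons acts_gAi
    (acts_cons acts_gX (acts_cons acts_gD acts_one))))))

theorem acts_gXx : Acts (rho gXx) (wordF WXx) :=
  acts_cons acts_gA (acts_cons acts_gDi (acts_cons acts_gX (acts_cons acts_gS (acts_cons acts_gXi
    (acts_cons acts_gD (acts_cons acts_gAi acts_one))))))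

/-- the involution `h0` acts by its table -/
theorem acts_fH0 : Acts (rho gH0) fH0 :=
  Cfsg.Agent.PF.Acts.congr acts_gH0 fun q hq => (eqH0 q hq).trans (wordR_eq WH0 q)

/-- the involution `h1` acts by its table -/
theorem acts_fH1 : Acts (rho gH1) fH1 :=
  Cfsg.Agent.PF.Acts.congr acts_gH1 fun q hq => (eqH1 q hq).trans (wordR_eq WH1 q)

/-- the involution `h2` acts by its table -/
theorem acts_fH2 : Acts (rho gH2) fH2 :=
  Cfsg.Agent.PF.Acts.congr acts_gH2 fun q hq => (eqH2 q hq).trans (wordR_eq WH2 q)

/-- the involution `h3` acts by its table -/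
theorem acts_fH3 : Acts (rho gH3) fH3 :=
  Cfsg.Agent.PF.Acts.congr acts_gH3 fun q hq => (eqH3 q hq).trans (wordR_eq WH3 q)

/-- the involution `x` acts by its table -/
theorem acts_fXx : Acts (rho gXx) fXx :=
  Cfsg.Agent.PF.Acts.congr acts_gXx fun q hq => (eqXx q hq).trans (wordR_eq WXx q)

end Cfsg.Agent.Lib.Helper5.Co1Gen
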