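import Cfsg.Agent.Lib.Lead.Co1Out.CntG
import Cfsg.Agent.Lib.Lead.Co1Out.LevG
import Cfsg.Agent.Lib.Helper5.Co1Gen.Letters

/-!
# Generators of Co₁ on the 98280 pairs: the word problem

An element of Co₁ that fixes the five pairs number 1000, 27425, 17791, 24000, 15574 is trivial (these
are the base points of the tight chain `LG0 :: LsG` of `Co1Out`); hence two elements whose maps agree
at these five points are equal.  Words in the five letters `h0`, `h1`, `h2`, `h3`, `x` are evaluated
at points by `evA` (first letter of the list first).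
-/

set_option autoImplicit false

namespace Cfsg.Agent.Lib.Helper5.Co1Gen

open Cfsg.Agent.PF Cfsg.Agent.Co1P Cfsg.Agent.Co1Out
open Cfsg.Agent.PL (Acts)
open Cfsg.Agent.PG (fixer fixer_nil)
open Cfsg.Agent.Lib.Helper6.Leech (Co1)
open Cfsg.Agent.Lib.Helper6.TC (force force_eq)

theorem K_le_P : Cfsg.Agent.Co1Out.K ≤ P := by
  refine (Subgroup.closure_le P).2 ?_
  intro g hg
  rcases hg with rfl | rfl | rfl
  · exact hx
  · exact hy
  · exact hw

theorem hG_P : ∀ L ∈ LG0 :: LsG, ∀ c ∈ L.2.1, Rep P c :=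
  fun L hL c hc => (hG L hL c hc).mono K_le_P

/-- the subgroup generated by `x`, `y`, `w` of `Co1Out` is the whole group -/
theorem K_eq_P : Cfsg.Agent.Co1Out.K = P := by
  apply Subgroup.eq_of_le_of_card_ge K_le_P
  have h := tree_sound Cfsg.Agent.Co1Out.K 10 (LG0 :: LsG) [] chk_treeG hG
  rw [fixer_nil, chk_countsG] at h
  rw [card_P]
  exact h

/-- the five base points -/
def baseL : List ℕ := [1000, 27425, 17791, 24000, 15574]

/-- **An element of the group that fixes the five base points is trivial.** -/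
theorem eq_one_of_fixes_base (g : Equiv.Perm (Fin 98280)) (hg : g ∈ P)
    (h : ∀ b ∈ baseL, ∀ hb : b < 98280, g ⟨b, hb⟩ = ⟨b, hb⟩) : g = 1 := by
  refine eq_one_of_fixes P 10 (LG0 :: LsG) [] chk_treeG hG_P ?_ g (by rw [fixer_nil]; exact hg) ?_
  · rw [fixer_nil, chk_countsG, card_P]
  · intro L hL hb
    simp only [LsG, List.mem_cons, List.not_mem_nil, or_false] at hL
    rcases hL with rfl | rfl | rfl | rfl | rfl
    · exact h 1000 (by simp [baseL]) hb
    · exact h 27425 (by simp [baseL]) hb
    · exact h 17791 (by simp [baseL]) hb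
    · exact h 24000 (by simp [baseL]) hb
    · exact h 15574 (by simp [baseL]) hb

/-- two elements of the group whose maps agree at the five base points are equal -/
theorem eq_of_agree {g h : Equiv.Perm (Fin 98280)} (hg : g ∈ P) (hh : h ∈ P) {f k : ℕ → ℕ}
    (ag : Acts g f) (ah : Acts h k) (e : ∀ b ∈ baseL, f b = k b) : g = h := by
  have h1 : g⁻¹ * h = 1 := by
    apply eq_one_of_fixes_base _ (P.mul_mem (P.inv_mem hg) hh)
    intro b hb hlt
    show g⁻¹ (h ⟨b, hlt⟩) = ⟨b, hlt⟩
    have : h ⟨b, hlt⟩ = g ⟨b, hlt⟩ := Fin.ext (by rw [ah b hlt, ag b hlt, e b hb])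
    rw [this]
    exact Equiv.symm_apply_apply g _
  exact (inv_mul_eq_one.1 h1)

/-- the same for elements of `Co1` -/
theorem eq_of_agree_co1 {g h : Co1} {f k : ℕ → ℕ} (ag : Acts (rho g) f) (ah : Acts (rho h) k)
    (e : ∀ b ∈ baseL, f b = k b) : g = h :=
  rho_injective (eq_of_agree ⟨g, rfl⟩ ⟨h, rfl⟩ ag ah e)

/-- an element of `Co1` that fixes the five base points is trivial -/
theorem eq_one_of_fixes_co1 {g : Co1} {f : ℕ → ℕ} (ag : Acts (rho g) f) (e : ∀ b ∈ baseL, f b = b) :
    g = 1 :=
  eq_of_agree_co1 ag (by rw [map_one]; exact Acts.one) e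

/-- **An element of `Co1` that fixes the five pairs number 1000, 27425, 17791, 24000, 15574 is trivial.** -/
theorem eq_one_of_fix : ∀ g : Co1, (∀ b ∈ [1000, 27425, 17791, 24000, 15574], ∃ hb : b < 98280,
    rho g ⟨b, hb⟩ = ⟨b, hb⟩) → g = 1 := by
  intro g h
  apply rho_injective
  rw [map_one]
  apply eq_one_of_fixes_base (rho g) ⟨g, rfl⟩
  intro b hb hlt
  obtain ⟨_, e⟩ := h b hb
  exact e

/-! ### words in the five letters -/

/-- the map of the letter `l` (letters `≥ 4` count as `x`), in a form that the kernel evaluates fast -/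
noncomputable def fLk (l q : ℕ) : ℕ :=
  Bool.rec (motive := fun _ => ℕ)
    (Bool.rec (motive := fun _ => ℕ)
      (Bool.rec (motive := fun _ => ℕ)
        (Bool.rec (motive := fun _ => ℕ) (fXx q) (fH3 q) (Nat.beq l 3))
        (fH2 q) (Nat.beq l 2))
      (fH1 q) (Nat.beq l 1))
    (fH0 q) (Nat.beq l 0)

/-- the letters `h0`, `h1`, `h2`, `h3`, `x`, numbered `0, …, 4` (letters `≥ 4` count as `x`) -/
noncomputable def gLk : ℕ → Co1
  | 0 => gH0
  | 1 => gH1
  | 2 => gH2
  | 3 => gH3
  | _ + 4 => gXx

theorem acts_gLk : ∀ l : ℕ, Acts (rho (gLk l)) (fLk l)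
  | 0 => acts_fH0
  | 1 => acts_fH1
  | 2 => acts_fH2
  | 3 => acts_fH3
  | _ + 4 => acts_fXx

/-- the image of the point `q` under a word in the letters, the first letter of the list first -/
noncomputable def evA (w : List ℕ) : ℕ → ℕ :=
  List.rec (motive := fun _ => ℕ → ℕ) (fun q => q) (fun l _ ih q => force (fLk l q) ih) w

theorem evA_nil (q : ℕ) : evA [] q = q := rfl

theorem evA_cons (l : ℕ) (w : List ℕ) (q : ℕ) : evA (l :: w) q = evA w (fLk l q) := by
  show force (fLk l q) (evA w) = _
  rw [force_eq]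

/-- the element of a word in the letters: the product in the reverse order, so that it acts by `evA` -/
noncomputable def prodR : List ℕ → Co1
  | [] => 1
  | l :: w => prodR w * gLk l

theorem acts_prodR : ∀ w : List ℕ, Acts (rho (prodR w)) (evA w)
  | [] => by rw [prodR, map_one]; exact Acts.one
  | l :: w => by
    rw [prodR, map_mul]
    exact Cfsg.Agent.PF.Acts.congr ((acts_prodR w).mul (acts_gLk l)) fun q _ => evA_cons l w q

/-- the maps agree at the points of the list -/
noncomputable def agreeB (f k : ℕ → ℕ) (bs : List ℕ) : Bool :=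
  List.rec (motive := fun _ => Bool) true (fun b _ ih => Nat.beq (f b) (k b) && ih) bs

theorem agreeB_spec {f k : ℕ → ℕ} : ∀ (bs : List ℕ), agreeB f k bs = true → ∀ b ∈ bs, f b = k b
  | [], _, b, hb => absurd hb List.not_mem_nil
  | a :: bs, h, b, hb => by
    have h' : (Nat.beq (f a) (k a) && agreeB f k bs) = true := h
    rw [Bool.and_eq_true] at h'
    rcases List.mem_cons.1 hb with rfl | hb'
    · exact Nat.eq_of_beq_eq_true h'.1
    · exact agreeB_spec bs h'.2 b hb'

/-- an element of `Co1` whose map agrees with that of a word at the base points is the element of the word -/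
theorem eq_prodR {g : Co1} {f : ℕ → ℕ} (ag : Acts (rho g) f) (w : List ℕ)
    (h : agreeB f (evA w) baseL = true) : g = prodR w :=
  eq_of_agree_co1 ag (acts_prodR w) (agreeB_spec baseL h)

end Cfsg.Agent.Lib.Helper5.Co1Gen
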